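import Cfsg.Agent.H734.HT.RowDP
import Cfsg.Agent.H646.HT.PSUDP
import Cfsg.Agent.H766.HT.DPValU

/-!
# S4933, box o.psu.e1: `PSU_n(q)`, `p ∣ q + 1`, `p < n < 2p` (helper734)
-/

set_option autoImplicit false

namespace Cfsg.Agent.H734.HT

open Cfsg Cfsg.Agent.H316.HT Cfsg.Agent.H722.DPol Cfsg.Agent.H697.HT.DPB0

/-- **`p < n < 2p`**: a dual polar character -/
theorem row_psu_mid {p : ℕ} [hp : Fact p.Prime] {F : Type} [Field F] [Fintype F] {n q : ℕ}
    (hF : Fintype.card F = q ^ 2) (hn : 3 ≤ n) (h32 : ¬ (n = 3 ∧ q = 2)) (h2 : p ≠ 2) (hpq : p ∣ q + 1)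
    (h1 : p < n) (h3 : n < 2 * p) : Row p (PSU n F q) := by
  obtain ⟨m, f, hf, hnm⟩ : ∃ m f : ℕ, f ≤ 1 ∧ n = 2 * m + f := ⟨n / 2, n % 2, by omega, by omega⟩
  have hq : 2 ≤ q := by
    have h4 : 1 < Fintype.card F := Fintype.one_lt_card
    rw [hF] at h4
    by_contra hcon
    have : q ≤ 1 := by omega
    interval_cases q <;> simp at h4
  obtain ⟨X, _, _, _, d, hDP, hiso⟩ := H646.HT.psu_dp hF hn h32 hnm hf
  obtain ⟨j, hj, hv⟩ := H766.HT.exists_j_psu hp.out h2 hq hpq hnm hf h1 h3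
  have : Finite (PSU n F q) := inferInstance
  have hqp : (q : ZMod p) = -1 := by
    have h5 : ((q + 1 : ℕ) : ZMod p) = 0 := (ZMod.natCast_eq_zero_iff _ _).2 hpq
    push_cast at h5
    linear_combination h5
  refine row_of_dp_one (Q := q ^ 2) (s := q ^ (2 * f + 1)) (m := m) (j := j) ?_ ?_ (by omega) hDP hj ?_ hiso hv
  · nlinarith
  · calc 2 ≤ q := hq
      _ = q ^ 1 := (pow_one q).symm
      _ ≤ q ^ (2 * f + 1) := Nat.pow_le_pow_right (by omega) (by omega)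
  · refine dvd_unitary' hj ?_
    push_cast
    rw [hqp, ← pow_mul, ← pow_add]
    have e : 2 * f + 1 + 2 * (m - j) = 2 * (f + (m - j)) + 1 := by ring
    rw [e]
    exact Odd.neg_one_pow ⟨_, rfl⟩

end Cfsg.Agent.H734.HT
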