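import Cfsg.Agent.H734.HT.PsuAb
import Cfsg.Agent.H734.HT.Mid
import Cfsg.Agent.H361.HT.AOne
import Cfsg.Agent.H298.HT.FrameIdx
import Cfsg.Agent.H892.HT.Diag
import Cfsg.Agent.H892.HT.Pairs

/-!
# S4933, box o.psu.e1: `Row p (PSU_n(q))`, `p` odd, `p ∣ q + 1`, `p ∤ n` (helper734)

* `n < p` : abelian Sylow subgroups (excluded); `p < n < 2p` : dual polar character; `2p < n < p²` : vacuous (`a = 1`
  and two commuting nonabelian pairs); `p² ≤ n` : vacuous (`P'' ≠ 1`).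
-/

set_option autoImplicit false

namespace Cfsg.Agent.H734.HT

open Cfsg Cfsg.Agent.H316.HT

/-- `p ∣ q + 1`, `p ∤ n`, without the hypothesis of simplicity -/
theorem row_psu_of {p : ℕ} [hp : Fact p.Prime] {F : Type} [Field F] [Fintype F] {n q : ℕ} (h2 : p ≠ 2)
    (hn : 3 ≤ n) (h32 : ¬ (n = 3 ∧ q = 2)) (hF : Fintype.card F = q ^ 2) (hpq : p ∣ q + 1) (hpn : ¬ p ∣ n)
    (hlt : p < n) : Row p (PSU n F q) := by
  rcases lt_or_ge n (2 * p) with h3 | h3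
  · exact row_psu_mid hF hn h32 h2 hpq hlt h3
  · rcases lt_or_ge n (p * p) with h4 | h4
    · exact row_psu_vac (H298.HT.not_dvd_index_Fr hF hn h32 h2 hpq)
        (fun R hR hRF Q hQR hQ a hTD => H361.HT.AOne.a_eq_one hF hn h2 hpq hpn (by rw [pow_two]; exact h4) R hR hRF Q
          hQR hQ hTD) (H892.HT.pairs_psu hF h2 hpq h3)
    · exact H892.HT.row_psu_grid hF hp.out h2 hpq h4

/-- **the field `OddRows.psu_e1`** -/
theorem psu_e1 : ∀ (p : ℕ) [Fact p.Prime] (F : Type) [Field F] [Fintype F] (n q : ℕ) [IsSimpleGroup (PSU n F q)], p ≠ 2 →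
    3 ≤ n → Fintype.card F = q ^ 2 → ¬ p ∣ q → p ∣ q + 1 → ¬ p ∣ n → ¬ H892.HT.Ab p (PSU n F q) →
      Row p (PSU n F q) := by
  intro p hp F _ _ n q _ h2 hn hF _ hpq hpn hab
  have h32 : ¬ (n = 3 ∧ q = 2) := by
    rintro ⟨rfl, rfl⟩
    exact hpn hpq
  rcases lt_trichotomy n p with h | h | h
  · exfalso
    apply hab
    refine ab_psu hF hn (fun hc => hab fun P => ?_) (H298.HT.not_dvd_index_Fr hF hn h32 h2 hpq) h
    exact ⟨⟨fun x y => Subtype.ext (hc.is_comm.comm _ _)⟩⟩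
  · exact absurd (dvd_of_eq h.symm) hpn
  · exact row_psu_of h2 hn h32 hF hpq hpn h

end Cfsg.Agent.H734.HT

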