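import Cfsg.Agent.H734.HT.PsuAsm
import Cfsg.Agent.H892.HT.Disp

/-!
# S4933, box o.psu.e1: the Sylow `p`-subgroups of `PSU_n(q)`, `p ∣ q + 1`, `n < p`, are abelian (helper734)
-/

set_option autoImplicit false
set_option linter.unusedSectionVars false

namespace Cfsg.Agent.H734.HT

open Cfsg Subgroup Cfsg.Agent.H316.HT Cfsg.Agent.H681.IP
open Cfsg.Agent.LieClassical.HermSiegel Cfsg.Agent.ClassicalGeometry.PSUAutCount Cfsg.Agent.Schreier.PSU
open Cfsg.Agent.ClassicalGeometry.UnitAutBasic (pr pr_surjective)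

variable {F : Type} [Field F] [Fintype F] {n q : ℕ}

/-- the inner automorphisms are `f₁ B` -/
theorem exists_f₁ (s : PSU n F q) : ∃ B : GU n F q, MulAut.conj s = f₁ B := by
  obtain ⟨g, rfl⟩ := pr_surjective s
  let B : GU n F q := ⟨⟨mat g, mat g⁻¹, by
    rw [← mat_mul, mul_inv_cancel, mat_one], by rw [← mat_mul, inv_mul_cancel, mat_one]⟩, fun u v => g.2 u v⟩
  exact ⟨B, (f₁_eq_conj B g rfl).symm⟩

/-- inner automorphisms in the frame stabiliser -/
theorem exists_mon_of_conj (hF : Fintype.card F = q ^ 2) (hn : 3 ≤ n) {s : PSU n F q}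
    (h : MulAut.conj s ∈ Fr n F q) : ∃ σ A, Mon σ A ∧ (MulAut.conj s : MulAut (PSU n F q)) = f₁ A := by
  obtain ⟨σ, A, ρ, hA, hx⟩ := h
  obtain ⟨B, hB⟩ := exists_f₁ s
  have h1 : toAut B 1 = toAut A ρ := by
    rw [← hx, hB]
    rfl
  obtain ⟨h2, -⟩ := eq_of_toAut_eq hF hn h1
  subst h2
  exact ⟨σ, A, hA, hx⟩

theorem Mon.pow {σ : Equiv.Perm (Fin n)} {A : GU n F q} (h : Mon σ A) (k : ℕ) : Mon (σ ^ k) (A ^ k) := by
  induction k with
  | zero => rw [pow_zero, pow_zero]; exact Mon.one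
  | succ k ih => rw [pow_succ, pow_succ]; exact ih.mul h

/-- the permutation of an element of order dividing `k` -/
theorem perm_pow (hF : Fintype.card F = q ^ 2) (hn : 3 ≤ n) {σ : Equiv.Perm (Fin n)} {A : GU n F q} (h : Mon σ A)
    {k : ℕ} (hk : (f₁ A : MulAut (PSU n F q)) ^ k = 1) : σ ^ k = 1 := by
  have h1 : toAut (1 : GU n F q) 1 = toAut (A ^ k) 1 := by
    rw [toAut_one, ← hk, ← map_pow]
    rfl
  obtain ⟨-, c, -, hc⟩ := eq_of_toAut_eq hF hn h1
  exact (h.pow k).uniq (Mon.one.smul hc)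

theorem perm_eq_one {p : ℕ} [hp : Fact p.Prime] (hnp : n < p) {σ : Equiv.Perm (Fin n)} {k : ℕ} (h : σ ^ p ^ k = 1) :
    σ = 1 := by
  rw [← orderOf_eq_one_iff]
  have h1 : orderOf σ ∣ p ^ k := orderOf_dvd_of_pow_eq_one h
  have h2 : orderOf σ ∣ n.factorial := by
    have := orderOf_dvd_card (x := σ)
    rwa [Fintype.card_perm, Fintype.card_fin] at this
  have h3 : Nat.Coprime (p ^ k) n.factorial :=
    Nat.Coprime.pow_left k ((Nat.Prime.coprime_iff_not_dvd hp.out).2 fun h => by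
      have := (hp.out.dvd_factorial).1 h
      omega)
  exact Nat.eq_one_of_dvd_one (h3 ▸ Nat.dvd_gcd h1 h2)

theorem conj_injective {S : Type*} [Group S] [IsSimpleGroup S] (hS : ¬ IsMulCommutative S) :
    Function.Injective (MulAut.conj : S →* MulAut S) := by
  rw [injective_iff_map_eq_one]
  intro s hs
  have h1 : s ∈ center S := by
    rw [mem_center_iff]
    intro t
    have h2 : MulAut.conj s t = t := by rw [hs]; rfl
    rw [MulAut.conj_apply, mul_inv_eq_iff_eq_mul] at h2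
    exact h2.symm
  rcases (center S).normal_of_characteristic.eq_bot_or_eq_top with h | h
  · rw [h] at h1
    exact mem_bot.1 h1
  · exfalso
    apply hS
    refine ⟨⟨fun a b => ?_⟩⟩
    have h2 : b ∈ center S := by rw [h]; exact mem_top b
    exact mem_center_iff.1 h2 a

/-- **the abelian case** -/
theorem ab_psu [IsSimpleGroup (PSU n F q)] {p : ℕ} [hp : Fact p.Prime] (hF : Fintype.card F = q ^ 2) (hn : 3 ≤ n)
    (hnc : ¬ IsMulCommutative (PSU n F q)) (hidx : ¬ p ∣ (Fr n F q).index) (hnp : n < p) :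
    H892.HT.Ab p (PSU n F q) := by
  intro P
  have : Finite (PSU n F q) := inferInstance
  have : Finite (MulAut (PSU n F q)) :=
    Finite.of_injective (fun α : MulAut (PSU n F q) => (α : PSU n F q → PSU n F q)) DFunLike.coe_injective
  obtain ⟨g, hg⟩ := exists_conj_le (Fr n F q) hidx ((P : Subgroup (PSU n F q)).map MulAut.conj) (P.2.map _)
  have key : ∀ x ∈ P, ∃ A : GU n F q, Mon 1 A ∧ (MulAut.conj (g x) : MulAut (PSU n F q)) = f₁ A := by
    intro x hx
    have h1 := hg _ ⟨x, hx, rfl⟩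
    rw [← conj_map] at h1
    obtain ⟨σ, A, hA, h2⟩ := exists_mon_of_conj hF hn h1
    obtain ⟨k, hk⟩ := P.2 ⟨x, hx⟩
    have h3 : x ^ p ^ k = 1 := congrArg Subtype.val hk
    have h4 : σ = 1 := perm_eq_one hnp (perm_pow hF hn hA (k := p ^ k) (by
      rw [← h2, ← map_pow, ← map_pow, h3, map_one, map_one]))
    subst h4
    exact ⟨A, hA, h2⟩
  refine ⟨⟨fun x y => Subtype.ext ?_⟩⟩
  obtain ⟨A, hA, hxA⟩ := key x x.2
  obtain ⟨B, hB, hyB⟩ := key y y.2
  have hAB : A * B = B * A := by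
    apply gm_inj
    rw [gm_mul, gm_mul, hA.eq_mm, hB.eq_mm, mm_mul, mm_mul]
    congr 1
    funext j
    exact mul_comm _ _
  apply g.injective
  apply conj_injective hnc
  show MulAut.conj (g ((x : PSU n F q) * y)) = MulAut.conj (g ((y : PSU n F q) * x))
  rw [map_mul g, map_mul g, map_mul MulAut.conj, map_mul MulAut.conj, hxA, hyB, ← map_mul, ← map_mul, hAB]

end Cfsg.Agent.H734.HT
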