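import Cfsg.Agent.H734.HT.UDefs
import Cfsg.Agent.H681.IP.Row

/-!
# S4933, box o.psu.e1: Sylow subgroups in the frame stabiliser, the vacuous part, the abelian part (helper734)
-/

set_option autoImplicit false

namespace Cfsg.Agent.H734.HT

open Cfsg Subgroup Cfsg.Agent.H316.HT Cfsg.Agent.H681.IP
open Cfsg.Agent.LieClassical.HermSiegel Cfsg.Agent.ClassicalGeometry.PSUAutCount Cfsg.Agent.Schreier.PSU
open Cfsg.Agent.ClassicalGeometry.UnitAutBasic (pr pr_surjective)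

universe u v

/-- a `p`-subgroup has a conjugate in every subgroup of index prime to `p` -/
theorem exists_conj_le {p : ℕ} [Fact p.Prime] {B : Type u} [Group B] [Finite B] (H : Subgroup B)
    (hH : ¬ p ∣ H.index) (R : Subgroup B) (hR : IsPGroup p R) : ∃ g : B, ∀ x ∈ R, g * x * g⁻¹ ∈ H := by
  obtain ⟨y, hy⟩ : ∃ y : B ⧸ H, y ∈ MulAction.fixedPoints R (B ⧸ H) := by
    have := hR.nonempty_fixed_point_of_prime_not_dvd_card (B ⧸ H) (by rwa [← index_eq_card])
    exact this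
  obtain ⟨g, rfl⟩ := QuotientGroup.mk_surjective y
  refine ⟨g⁻¹, fun x hx => ?_⟩
  have h1 := hy ⟨x, hx⟩
  have h2 : ((x * g : B) : B ⧸ H) = (g : B ⧸ H) := h1
  have h3 := QuotientGroup.eq.1 h2.symm
  have h4 : g⁻¹ * x * g⁻¹⁻¹ = g⁻¹ * (x * g) := by group
  rw [h4]
  exact h3

/-- the embedding of an almost simple group -/
theorem exists_phi {S : Type v} [Group S] {A : Type u} [Group A] (N : Subgroup A) [N.Normal] (e : N ≃* S)
    (hC : centralizer (N : Set A) = ⊥) : ∃ φ : A →* MulAut S, Function.Injective φ ∧ ∀ n : N, φ n = MulAut.conj (e n) := by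
  obtain ⟨φ, hφ⟩ : ∃ φ : A →* MulAut S, φ = (MulAut.congr e).toMonoidHom.comp MulAut.conjNormal := ⟨_, rfl⟩
  have hφa : ∀ (a : A) (n : N), φ a (e n) = e (MulAut.conjNormal a n) := by
    intro a n
    rw [hφ]
    show e (MulAut.conjNormal a (e.symm (e n))) = _
    rw [e.symm_apply_apply]
  refine ⟨φ, ?_, ?_⟩
  · rw [injective_iff_map_eq_one]
    intro a ha1
    have h3 : a ∈ centralizer (N : Set A) := by
      rw [mem_centralizer_iff]
      intro n hn
      have h4 := hφa a ⟨n, hn⟩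
      rw [ha1] at h4
      have h5 : (⟨n, hn⟩ : N) = MulAut.conjNormal a ⟨n, hn⟩ := e.injective h4
      have h6 := congrArg Subtype.val h5
      rw [MulAut.conjNormal_apply] at h6
      have h7 : n = a * n * a⁻¹ := h6
      nth_rewrite 1 [h7]
      group
    rw [hC] at h3
    exact mem_bot.1 h3
  · intro n
    ext s
    obtain ⟨m, rfl⟩ := e.surjective s
    rw [hφa, MulAut.conj_apply, MulAut.conjNormal_val, MulAut.conj_apply, map_mul, map_mul, map_inv]

theorem conj_map {S : Type v} [Group S] (α : MulAut S) (y : S) : MulAut.conj (α y) = α * MulAut.conj y * α⁻¹ := by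
  ext s
  obtain ⟨t, rfl⟩ := α.surjective s
  show α y * α t * (α y)⁻¹ = α (MulAut.conj y (α⁻¹ (α t)))
  rw [MulAut.inv_apply_self, MulAut.conj_apply, map_mul, map_mul, map_inv]

/-- **The Sylow subgroups of the almost simple groups in the frame stabiliser** (any subgroup `H` of `MulAut S` of index
prime to `p`) -/
theorem exists_R {p : ℕ} [Fact p.Prime] {S : Type v} [Group S] [Finite S] (H : Subgroup (MulAut S))
    (hH : ¬ p ∣ H.index) {A : Type u} [Group A] [Finite A] (N : Subgroup A) [N.Normal] (e : N ≃* S)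
    (hC : centralizer (N : Set A) = ⊥) (P : Sylow p A) :
    ∃ R : Subgroup (MulAut S), R ≤ H ∧ Nonempty ((P : Subgroup A) ≃* R) ∧
      ∃ Q : Sylow p S, ∀ x ∈ Q, MulAut.conj x ∈ R := by
  classical
  have : Finite (MulAut S) := Finite.of_injective (fun α : MulAut S => (α : S → S)) DFunLike.coe_injective
  obtain ⟨φ, hφ, hφN⟩ := exists_phi N e hC
  obtain ⟨g, hg⟩ := exists_conj_le H hH ((P : Subgroup A).map φ) (P.2.map φ)
  let ψ : A →* MulAut S := (MulAut.conj g).toMonoidHom.comp φ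
  have hψ : ∀ a, ψ a = g * φ a * g⁻¹ := fun a => rfl
  have hψi : Function.Injective ψ := (MulAut.conj g).injective.comp hφ
  refine ⟨(P : Subgroup A).map ψ, ?_, ⟨(P : Subgroup A).equivMapOfInjective ψ hψi⟩, ?_⟩
  · rintro _ ⟨a, ha, rfl⟩
    rw [hψ]
    exact hg _ ⟨a, ha, rfl⟩
  · obtain ⟨Q₁⟩ : Nonempty (Sylow p S) := inferInstance
    let X : Subgroup A := ((Q₁ : Subgroup S).map e.symm.toMonoidHom).map N.subtype
    have hX : IsPGroup p X := (Q₁.2.map _).map _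
    obtain ⟨P', hP'⟩ := hX.exists_le_sylow
    obtain ⟨h, rfl⟩ := MulAction.exists_smul_eq A P' P
    let Q : Sylow p S := Q₁.mapSurjective (f := (g * φ h : MulAut S).toMonoidHom) (g * φ h : MulAut S).surjective
    refine ⟨Q, ?_⟩
    rintro _ ⟨y, hy, rfl⟩
    refine ⟨h * (e.symm y : A) * h⁻¹, ?_, ?_⟩
    · have h1 : ((e.symm y : N) : A) ∈ P' := hP' ⟨e.symm y, ⟨y, hy, rfl⟩, rfl⟩
      have h2 := Subgroup.smul_mem_pointwise_smul _ (MulAut.conj h) (P' : Subgroup A) h1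
      exact h2
    · rw [hψ, map_mul, map_mul, map_inv, hφN, e.apply_symm_apply]
      have h1 := conj_map (g * φ h) y
      refine Eq.trans ?_ h1.symm
      group

/-- `U-B` as a hypothesis -/
def AOne (p n : ℕ) (F : Type) [Field F] [Fintype F] (q : ℕ) : Prop :=
  ∀ (R : Subgroup (MulAut (PSU n F q))), IsPGroup p R → R ≤ Fr n F q → ∀ Q : Sylow p (PSU n F q),
    (∀ x ∈ Q, MulAut.conj x ∈ R) → ¬ IsMulCommutative Q → ∀ a : ℕ, TD p a R → a = 1

/-- `U-C` as a hypothesis -/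
def Pairs (p : ℕ) (S : Type v) [Group S] : Prop :=
  ∃ X : Subgroup S, IsPGroup p X ∧ ∃ x₁ ∈ X, ∃ y₁ ∈ X, ∃ x₂ ∈ X, ∃ y₂ ∈ X, x₁ * y₁ ≠ y₁ * x₁ ∧ x₂ * y₂ ≠ y₂ * x₂ ∧
    Commute x₁ x₂ ∧ Commute x₁ y₂ ∧ Commute y₁ x₂ ∧ Commute y₁ y₂

/-- **the vacuous part** -/
theorem row_psu_vac {p : ℕ} [hp : Fact p.Prime] {F : Type} [Field F] [Fintype F] {n q : ℕ}
    (hidx : ¬ p ∣ (Fr n F q).index) (hone : AOne p n F q) (hpairs : Pairs p (PSU n F q)) : Row p (PSU n F q) := by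
  intro A _ _ N _ ⟨e⟩ hC M hM P a ha hcd
  exfalso
  have : Finite (PSU n F q) := inferInstance
  obtain ⟨R, hRF, ⟨eR⟩, Q, hQ⟩ := exists_R (Fr n F q) hidx N e hC P
  obtain ⟨X, hX, x₁, hx₁, y₁, hy₁, x₂, hx₂, y₂, hy₂, h1, h2, c1, c2, c3, c4⟩ := hpairs
  have hTD := TD.of_CD hcd
  have : Finite R := Finite.of_equiv _ eR.toEquiv
  have hTDR : TD p a R := hTD.equiv eR
  have hRp : IsPGroup p R := P.2.of_equiv eR
  have hQna : ¬ IsMulCommutative Q := by
    intro hcomm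
    obtain ⟨i, hi⟩ := exists_hom Q X.subtype X.subtype_injective hX
    apply h1
    have h3 : (⟨x₁, hx₁⟩ : X) * ⟨y₁, hy₁⟩ = ⟨y₁, hy₁⟩ * ⟨x₁, hx₁⟩ := by
      apply hi
      rw [map_mul, map_mul]
      exact hcomm.is_comm.comm _ _
    exact congrArg Subtype.val h3
  have ha1 := hone R hRp hRF Q hQ hQna a hTDR
  subst ha1
  obtain ⟨i, hi⟩ := exists_hom P (N.subtype.comp (e.symm.toMonoidHom.comp X.subtype))
    (fun a b hab => X.subtype_injective (e.symm.injective (Subtype.val_injective hab))) hX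
  have hc : ∀ {a b : PSU n F q} (ha : a ∈ X) (hb : b ∈ X), Commute a b → Commute (i ⟨a, ha⟩) (i ⟨b, hb⟩) := by
    intro a b ha hb hab
    have h3 : Commute (⟨a, ha⟩ : X) ⟨b, hb⟩ := Subtype.ext hab.eq
    exact h3.map i
  refine hTD.false_of_pairs hp.out P.2 (x₁ := i ⟨x₁, hx₁⟩) (y₁ := i ⟨y₁, hy₁⟩) (x₂ := i ⟨x₂, hx₂⟩)
    (y₂ := i ⟨y₂, hy₂⟩) (fun h => h1 ?_) (fun h => h2 ?_) (hc hx₁ hx₂ c1) (hc hx₁ hy₂ c2) (hc hy₁ hx₂ c3)
    (hc hy₁ hy₂ c4)
  · rw [← map_mul, ← map_mul] at h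
    exact congrArg Subtype.val (hi h)
  · rw [← map_mul, ← map_mul] at h
    exact congrArg Subtype.val (hi h)

end Cfsg.Agent.H734.HT
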