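import Cfsg.Agent.H697.HT.DPB0
import Cfsg.Agent.H769.CY.RThree
import Cfsg.Agent.H316.HT.Defs
import Cfsg.Agent.H684.BlockTools

/-!
# S4933: rows by the dual polar characters, for the whole almost simple group (helper734)

`S` acts on `X` as on a dual polar space (`DP S X d m Q s`), every automorphism of `S` is induced by an isometry of the
scheme (`Iso d γ`).  Then every almost simple group over `S` acts on `X` with the same scheme, so no extension of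
characters is needed:

* `exists_of_dp` : the character of the almost simple group;
* `row_of_dp` : `Row p S`.
-/

set_option autoImplicit false
set_option linter.unusedSectionVars false

namespace Cfsg.Agent.H734.HT

open Cfsg Subgroup MulAction Finset
open Cfsg.Agent.H722.DPol Cfsg.Agent.H697.HT.DPB0 Cfsg.Agent.H816.IMEig Cfsg.Agent.Blocks.Fong
open Cfsg.Agent.H769.CY Cfsg.Agent.H316.HT Cfsg.Agent.Characters.Core Cfsg.Agent.H582.Sph
open scoped BigOperators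

universe u v w

section one

variable {G : Type u} [Group G] {X : Type v} [MulAction G X] {d : X → X → ℕ} {m Q s j p : ℕ} {M : Ideal AlgInt}

/-- `χ_j` in the principal block, with its values -/
theorem exists_mem_val [Finite G] [Fintype X] [Nonempty X] (hM : IsPModular p M) (hQ : 2 ≤ Q) (hs : 1 ≤ s) (hm : 1 ≤ m)
    (h : DP G X d m Q s) (hj : j ≤ m)
    (hc : ∀ i, (p : ℤ) ∣ PP (Q : ℤ) (s : ℤ) m j i - PP (Q : ℤ) (s : ℤ) m 0 i) :
    ∃ χ : IrrCharacter G, χ ∈ principalBlock M G ∧ (χ : G → ℂ) 1 = ((ff (Q : ℚ) (s : ℚ) m j : ℚ) : ℂ) ∧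
      ∀ g : G, (χ : G → ℂ) g = ((ff (Q : ℚ) (s : ℚ) m j : ℚ) : ℂ) / (Nat.card X : ℂ) *
        ∑ x, ((om m Q s j (d x (g • x)) : ℚ) : ℂ) := by
  classical
  have hp := hM.2.1.isPrime
  obtain ⟨χ, hχ, h1, h2⟩ := DP.exists_char hQ hs hm h hj
  have hQ' : (1 : ℚ) < Q := by exact_mod_cast hQ
  have hs' : (0 : ℚ) < s := by exact_mod_cast hs
  have hff : ff (Q : ℚ) (s : ℚ) m j ≠ 0 := (ff_pos hQ' hs' hj).ne'
  have hX0 : (Nat.card X : ℂ) ≠ 0 := by exact_mod_cast (Nat.card_pos (α := X)).ne'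
  refine ⟨⟨χ, hχ⟩, ?_, h1, h2⟩
  refine mem_principal_of_sph (ω := fun u : Fin (m + 1) => ((om m Q s j u : ℚ) : ℂ)) hM h.toCol ⟨χ, hχ⟩
    (a := ((ff (Q : ℚ) (s : ℚ) m j : ℚ) : ℂ) / (Nat.card X : ℂ)) ?_ ?_ ?_ ?_
  · exact div_ne_zero (by exact_mod_cast hff) hX0
  · show ((om m Q s j 0 : ℚ) : ℂ) = 1
    rw [om_zero]
    norm_num
  · exact h2
  · intro x u
    have hu : (u : ℕ) ≤ m := Nat.le_of_lt_succ u.2
    have e1 : ((Col.kk h.col x u : ℕ) : ℚ) = PP (Q : ℚ) (s : ℚ) m 0 u := DP.kk_eq hQ hs h x u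
    have e2 : (Col.kk h.col x u : ℂ) * ((om m Q s j u : ℚ) : ℂ) - (Col.kk h.col x u : ℂ) =
        (((PP (Q : ℤ) (s : ℤ) m j u - PP (Q : ℤ) (s : ℤ) m 0 u : ℤ) : AlgInt) : ℂ) := by
      have e3 : ((Col.kk h.col x u : ℕ) : ℚ) * om m Q s j u - ((Col.kk h.col x u : ℕ) : ℚ) =
          ((PP (Q : ℤ) (s : ℤ) m j u - PP (Q : ℤ) (s : ℤ) m 0 u : ℤ) : ℚ) := by
        rw [Int.cast_sub, PP_castQ, PP_castQ, e1]
        unfold om
        have := (val_pos hQ' hs' hu).ne'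
        field_simp
      have e4 := congrArg (fun r : ℚ => (r : ℂ)) e3
      push_cast at e4 ⊢
      exact e4
    rw [e2]
    obtain ⟨k, hk⟩ := hc u
    rw [lideal_coe_iff hp, hk]
    push_cast
    exact M.mul_mem_right _ hM.2.2

end one

section sphere

variable {G : Type u} [Group G] {X : Type v} [MulAction G X] {d : X → X → ℕ} {m Q s : ℕ}

/-- no sphere of positive radius has size one -/
theorem kk_ne_one [Finite X] [Nonempty X] (hQ : 2 ≤ Q) (hs : 2 ≤ s) (h : DP G X d m Q s) (x : X) (u : Fin (m + 1))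
    (hu : (u : ℕ) ≠ 0) : Col.kk h.col x u ≠ 1 := by
  intro h1
  obtain ⟨i, hi⟩ : ∃ i, (u : ℕ) = i + 1 := ⟨u - 1, by omega⟩
  have him : i < m := by
    have := u.2
    omega
  have e1 := DP.kk_eq hQ (by omega) h x u
  rw [h1, hi] at e1
  have e2 := val_rec (s := s) hQ him
  rw [← e1] at e2
  have e3 := DP.kk_eq hQ (by omega) h x ⟨i, by omega⟩
  have hQ' : (1 : ℚ) < Q := by exact_mod_cast hQ
  have hs' : (0 : ℚ) < s := by exact_mod_cast (show 0 < s by omega)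
  have e4 : 0 < PP (Q : ℚ) (s : ℚ) m 0 i := val_pos hQ' hs' him.le
  have e5 : ((1 : ℕ) : ℚ) ≤ PP (Q : ℚ) (s : ℚ) m 0 i := by
    rw [← e3] at e4 ⊢
    have : 0 < Col.kk h.col x ⟨i, by omega⟩ := by exact_mod_cast e4
    exact_mod_cast this
  have b1 := br_mul (K := ℚ) Q (i + 1)
  have b2 : (1 : ℚ) ≤ br Q (m - i) := by exact_mod_cast br_pos Q (show 0 < m - i by omega)
  have hs2 : (2 : ℚ) ≤ s := by exact_mod_cast hs
  have hQ2 : (2 : ℚ) ≤ Q := by exact_mod_cast hQ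
  have hp : (0 : ℚ) < (Q : ℚ) ^ i := by positivity
  push_cast at e2 e5 b1
  have e6 : (s : ℚ) * (Q : ℚ) ^ i ≤ s * (Q : ℚ) ^ i * br Q (m - i) * PP (Q : ℚ) (s : ℚ) m 0 i := by
    have e7 : (s : ℚ) * (Q : ℚ) ^ i ≤ s * (Q : ℚ) ^ i * br Q (m - i) := le_mul_of_one_le_right (by positivity) b2
    exact e7.trans (le_mul_of_one_le_right (by positivity) e5)
  have e8 : (2 : ℚ) * (Q : ℚ) ^ i ≤ br Q (i + 1) := by
    have : (2 : ℚ) * (Q : ℚ) ^ i ≤ s * (Q : ℚ) ^ i := mul_le_mul_of_nonneg_right hs2 hp.le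
    linarith
  have e9 : ((Q : ℚ) - 1) * (2 * (Q : ℚ) ^ i) ≤ (Q : ℚ) ^ (i + 1) - 1 := by
    rw [← b1]
    exact mul_le_mul_of_nonneg_left e8 (by linarith)
  rw [pow_succ] at e9
  nlinarith

/-- **the stabilizers separate the points** -/
theorem stab_inj [Finite X] [Nonempty X] (hQ : 2 ≤ Q) (hs : 2 ≤ s) (h : DP G X d m Q s) (x y : X)
    (hxy : stabilizer G x = stabilizer G y) : x = y := by
  classical
  by_contra hne
  have h0 : d x y ≠ 0 := fun h1 => hne ((h.diag x y).1 h1)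
  refine kk_ne_one hQ hs h x ⟨d x y, Nat.lt_succ_of_le (h.le x y)⟩ h0 ?_
  unfold Col.kk
  rw [Nat.card_eq_one_iff_unique]
  refine ⟨⟨fun a b => Subtype.ext ?_⟩, ⟨⟨y, rfl⟩⟩⟩
  have key : ∀ a : {z : X // h.col x z = ⟨d x y, Nat.lt_succ_of_le (h.le x y)⟩}, a.1 = y := by
    intro a
    have h1 : d x a.1 = d x y := congrArg Fin.val a.2
    obtain ⟨g, hg1, hg2⟩ := h.tr x y x a.1 h1.symm
    have h2 : g ∈ stabilizer G y := hxy ▸ mem_stabilizer_iff.2 hg1
    rw [← hg2]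
    exact mem_stabilizer_iff.1 h2
  rw [key a, key b]

end sphere

section aut

variable {S : Type u} [Group S] {X : Type v} [MulAction S X] {d : X → X → ℕ} {m Q s j p : ℕ}

theorem map_stab {γ : S ≃* S} {π : Equiv.Perm X} (h : ∀ (g : S) (x : X), π (g • x) = γ g • π x) (x : X) :
    (stabilizer S x).map γ.toMonoidHom = stabilizer S (π x) := by
  ext g
  rw [Subgroup.mem_map, mem_stabilizer_iff]
  constructor
  · rintro ⟨k, hk, rfl⟩
    show γ k • π x = π x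
    rw [← h, mem_stabilizer_iff.1 hk]
  · intro hg
    refine ⟨γ.symm g, ?_, γ.apply_symm_apply g⟩
    rw [mem_stabilizer_iff]
    apply π.injective
    rw [h, γ.apply_symm_apply, hg]

/-- the character of a group of automorphisms -/
theorem exists_aut_dp [Finite S] [Finite X] [Nonempty X] (hQ : 2 ≤ Q) (hs : 2 ≤ s) (hm : 1 ≤ m) (h : DP S X d m Q s)
    (hj : j ≤ m) (hc : ∀ i, (p : ℤ) ∣ PP (Q : ℤ) (s : ℤ) m j i - PP (Q : ℤ) (s : ℤ) m 0 i)
    (hiso : ∀ γ : S ≃* S, Iso d γ) (hf1 : ff (Q : ℚ) (s : ℚ) m j ≠ 1)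
    (A : Subgroup (MulAut S)) (hA : ∀ s : S, MulAut.conj s ∈ A)
    (M : Ideal AlgInt) (hM : IsPModular p M) : ∃ χ : IrrCharacter A, χ ∈ principalBlock M A ∧
      ((charDegree (χ : A → ℂ) : ℕ) : ℚ) = ff (Q : ℚ) (s : ℚ) m j ∧
      ∃ s : S, (χ : A → ℂ) ⟨MulAut.conj s, hA s⟩ ≠ (χ : A → ℂ) 1 := by
  classical
  have _ := Fintype.ofFinite X
  have hinj := stab_inj hQ hs h
  have hst : ∀ α ∈ A, ∀ x : X, ∃ y : X, (stabilizer S x).map (MulEquiv.toMonoidHom α) = stabilizer S y := by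
    intro α _ x
    obtain ⟨π, hπ, -⟩ := hiso α
    exact ⟨π x, map_stab hπ x⟩
  let _ : MulAction A X := act A hinj hst
  have hcs : ∀ (α : A) (g : S) (x : X), α • (g • x) = (α : MulAut S) g • (α • x) := act_smul A hinj hst
  have hcj : ∀ (s : S) (x : X), (⟨MulAut.conj s, hA s⟩ : A) • x = s • x := act_conj A hinj hst hA
  have hdist : ∀ (α : A) (x y : X), d (α • x) (α • y) = d x y := by
    intro α x y
    obtain ⟨π, hπ, hd⟩ := hiso (α : MulAut S)
    have e1 : ∀ x : X, α • x = π x := by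
      intro x
      apply hinj
      rw [← map_stab hπ x]
      exact (actFun_spec A hst α x).symm
    rw [e1, e1, hd]
  have hB : DP A X d m Q s :=
    { inv := hdist
      tr := fun x y x' y' hxy => by
        obtain ⟨g, h1, h2⟩ := h.tr x y x' y' hxy
        exact ⟨⟨MulAut.conj g, hA g⟩, by rw [hcj, h1], by rw [hcj, h2]⟩
      diag := h.diag
      symm := h.symm
      le := h.le
      near := h.near
      cup := h.cup
      cdn := h.cdn }
  obtain ⟨χ, hχ, d', v'⟩ := exists_mem_val hM hQ (by omega) hm hB hj hc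
  have hdeg : ((charDegree (χ : A → ℂ) : ℕ) : ℚ) = ff (Q : ℚ) (s : ℚ) m j := by
    have h1 : ((charDegree (χ : A → ℂ) : ℕ) : ℂ) = ((ff (Q : ℚ) (s : ℚ) m j : ℚ) : ℂ) := by
      rw [← d']
      exact Blocks.ReynoldsAux.coe_charDegree (Characters.Core.isIrr_isCharacter χ.2)
    exact_mod_cast h1
  refine ⟨χ, hχ, hdeg, ?_⟩
  obtain ⟨θ₀, hθ, d2, v2⟩ := DP.exists_char hQ (show 1 ≤ s by omega) hm h hj
  by_contra hcon
  push Not at hcon
  have e1 : ∀ t : S, θ₀ t = θ₀ 1 := by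
    have e2 : ∀ t : S, (χ : A → ℂ) ⟨MulAut.conj t, hA t⟩ = θ₀ t := by
      intro t
      rw [v2, v']
      congr 1
      exact Finset.sum_congr rfl fun x _ => by rw [hcj]
    intro t
    rw [← e2 t, hcon t, d', d2]
  apply hf1
  have := Fintype.ofFinite S
  have h3 := classInner_irr_self (G := S) hθ
  rw [classInner_def] at h3
  have h5 : ∑ t : S, θ₀ t * (starRingEnd ℂ) (θ₀ t) =
      Nat.card S * (((ff (Q : ℚ) (s : ℚ) m j : ℚ) : ℂ) * ((ff (Q : ℚ) (s : ℚ) m j : ℚ) : ℂ)) := by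
    rw [Finset.sum_congr rfl fun t _ => by rw [e1 t, d2, map_ratCast], Finset.sum_const, Finset.card_univ, nsmul_eq_mul,
      Nat.card_eq_fintype_card]
  rw [h5, inv_mul_cancel_left₀ (by exact_mod_cast Nat.card_pos.ne')] at h3
  have h6 : ff (Q : ℚ) (s : ℚ) m j * ff (Q : ℚ) (s : ℚ) m j = 1 := by exact_mod_cast h3
  have h7 : 0 < ff (Q : ℚ) (s : ℚ) m j := ff_pos (by exact_mod_cast hQ) (by exact_mod_cast (show 0 < s by omega)) hj
  nlinarith

/-- the character of an almost simple group -/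
theorem exists_of_dp [Finite S] [Finite X] [Nonempty X] (hQ : 2 ≤ Q) (hs : 2 ≤ s) (hm : 1 ≤ m) (h : DP S X d m Q s)
    (hj : j ≤ m) (hc : ∀ i, (p : ℤ) ∣ PP (Q : ℤ) (s : ℤ) m j i - PP (Q : ℤ) (s : ℤ) m 0 i)
    (hiso : ∀ γ : S ≃* S, Iso d γ) (hf1 : ff (Q : ℚ) (s : ℚ) m j ≠ 1)
    {A : Type w} [Group A] [Finite A] (N : Subgroup A) [N.Normal] (e : N ≃* S) (hC : centralizer (N : Set A) = ⊥)
    (M : Ideal AlgInt) (hM : IsPModular p M) : ∃ χ : IrrCharacter A, χ ∈ principalBlock M A ∧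
      ((charDegree (χ : A → ℂ) : ℕ) : ℚ) = ff (Q : ℚ) (s : ℚ) m j ∧ ∃ n ∈ N, (χ : A → ℂ) n ≠ (χ : A → ℂ) 1 := by
  classical
  obtain ⟨φ, hφ⟩ : ∃ φ : A →* MulAut S, φ = (MulAut.congr e).toMonoidHom.comp MulAut.conjNormal := ⟨_, rfl⟩
  have hφa : ∀ (a : A) (n : N), φ a (e n) = e (MulAut.conjNormal a n) := by
    intro a n
    rw [hφ]
    show e (MulAut.conjNormal a (e.symm (e n))) = _
    rw [e.symm_apply_apply]
  have hinjφ : Function.Injective φ := by
    rw [injective_iff_map_eq_one]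
    intro a ha1
    have h3 : a ∈ centralizer (N : Set A) := by
      rw [mem_centralizer_iff]
      intro n hn
      have h4 := hφa a ⟨n, hn⟩
      rw [ha1] at h4
      have h5 : (⟨n, hn⟩ : N) = MulAut.conjNormal a ⟨n, hn⟩ := e.injective h4
      have h6 := congrArg Subtype.val h5
      rw [MulAut.conjNormal_apply] at h6
      have h7 : n = a * n * a⁻¹ := h6
      nth_rewrite 1 [h7]
      group
    rw [hC] at h3
    exact mem_bot.1 h3
  have hconj : ∀ n : N, φ n = MulAut.conj (e n) := by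
    intro n
    ext s
    obtain ⟨m, rfl⟩ := e.surjective s
    rw [hφa, MulAut.conj_apply, MulAut.conjNormal_val, MulAut.conj_apply, map_mul, map_mul, map_inv]
  have hA : ∀ s : S, MulAut.conj s ∈ φ.range := by
    intro s
    obtain ⟨n, rfl⟩ := e.surjective s
    exact ⟨n, hconj n⟩
  obtain ⟨χ, hχ, hd, s, hs⟩ := exists_aut_dp hQ hs hm h hj hc hiso hf1 φ.range hA M hM
  let e' : A ≃* φ.range := MonoidHom.ofInjective hinjφ
  refine ⟨_, H684.BlockTools.infl_mem hM e'.toMonoidHom e'.surjective hχ, ?_, ?_⟩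
  · rw [← hd]
    congr 1
    show charDegree ((χ : φ.range → ℂ) ∘ e') = _
    rw [Blocks.Basic.charDegree_def, Blocks.Basic.charDegree_def, Function.comp_apply, map_one]
  · obtain ⟨n, rfl⟩ := e.surjective s
    refine ⟨n, n.2, ?_⟩
    show (χ : φ.range → ℂ) (e' n) ≠ (χ : φ.range → ℂ) (e' 1)
    rw [map_one]
    have e1 : e' n = ⟨MulAut.conj (e n), hA (e n)⟩ := Subtype.ext (hconj n)
    rw [e1]
    exact hs

/-- **The row of a dual polar action**: all colours congruent modulo `p`, `1 ≤ v(f) ≤ a`. -/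
theorem row_of_dp [hp : Fact p.Prime] [Finite S] [Finite X] [Nonempty X] (hQ : 2 ≤ Q) (hs : 2 ≤ s) (hm : 1 ≤ m)
    (h : DP S X d m Q s) (hj : j ≤ m)
    (hc : ∀ i, (p : ℤ) ∣ PP (Q : ℤ) (s : ℤ) m j i - PP (Q : ℤ) (s : ℤ) m 0 i)
    (hiso : ∀ γ : S ≃* S, Iso d γ) (hpos : 0 < padicValRat p (ff (Q : ℚ) (s : ℚ) m j))
    (hle : ∀ {A : Type} [Group A] [Finite A] (N : Subgroup A) [N.Normal] (_ : N ≃* S) (P : Sylow p A) (a : ℕ), 0 < a →
      CD p a (P : Subgroup A) → padicValRat p (ff (Q : ℚ) (s : ℚ) m j) ≤ a) : Row p S := by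
  intro A _ _ N _ ⟨e⟩ hC M hM P a ha0 hcd
  obtain ⟨χ, hχ, hd, hn⟩ := exists_of_dp hQ hs hm h hj hc hiso (fun h1 => by
    rw [h1, padicValRat.one] at hpos
    exact lt_irrefl _ hpos) N e hC M hM
  have hv : ((vd p (χ : A → ℂ) : ℕ) : ℤ) = padicValRat p (ff (Q : ℚ) (s : ℚ) m j) := by
    rw [← hd, padicValRat.of_nat, vd, Nat.factorization_def _ hp.out]
  refine ⟨χ, hχ, hn, ?_, ?_⟩
  · rw [← hv] at hpos
    exact_mod_cast hpos
  · have h1 := hle N e P a ha0 hcd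
    rw [← hv] at h1
    exact_mod_cast h1

/-- **The row of a dual polar action**, `v(f) = 1`. -/
theorem row_of_dp_one [hp : Fact p.Prime] [Finite S] [Finite X] [Nonempty X] (hQ : 2 ≤ Q) (hs : 2 ≤ s) (hm : 1 ≤ m)
    (h : DP S X d m Q s) (hj : j ≤ m)
    (hc : ∀ i, (p : ℤ) ∣ PP (Q : ℤ) (s : ℤ) m j i - PP (Q : ℤ) (s : ℤ) m 0 i)
    (hiso : ∀ γ : S ≃* S, Iso d γ) (hv : padicValRat p (ff (Q : ℚ) (s : ℚ) m j) = 1) : Row p S :=
  row_of_dp hQ hs hm h hj hc hiso (by rw [hv]; exact one_pos) fun _ _ _ _ _ ha _ => by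
    rw [hv]
    exact_mod_cast ha

end aut

end Cfsg.Agent.H734.HT
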